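import Mathlib
import Cfsg.Agent.Lib.L3F.Defs
import Cfsg.Agent.Lib.L3F.Emb
import Cfsg.Agent.S3713
import Cfsg.Agent.S0270

/-! Standard `L₃(3)`, the case `PSp₆(3)`, package Am: the amalgam.  See `plans/L3F.md`. -/

set_option autoImplicit false
set_option linter.unusedSectionVars false

namespace CfsgLib.L3F

open Subgroup CfsgLib.Tech CfsgLib.L33 CfsgLib.PComp

variable {G : Type*} [Group G] [Finite G]

/-- gluing along commuting subgroups -/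
theorem glue {Γ H : Type*} [Group Γ] [Group H] {A A' : Subgroup Γ} (φ : A →* H) (φ' : A' →* H)
    (hc : ∀ a ∈ A, ∀ a' ∈ A', Commute a a') (hi : ∀ a a', Commute (φ a) (φ' a'))
    (he : ∀ g (h : g ∈ A) (h' : g ∈ A'), φ ⟨g, h⟩ = φ' ⟨g, h'⟩) :
    ∃ Ψ : ↥(A ⊔ A') →* H, (∀ g (h : g ∈ A), Ψ ⟨g, mem_sup_left h⟩ = φ ⟨g, h⟩) ∧
      ∀ g (h : g ∈ A'), Ψ ⟨g, mem_sup_right h⟩ = φ' ⟨g, h⟩ := by
  let i₁ : A →* ↥(A ⊔ A') := inclusion le_sup_left
  let i₂ : A' →* ↥(A ⊔ A') := inclusion le_sup_right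
  have hci : ∀ a a', Commute (i₁ a) (i₂ a') := fun a a' => Subtype.ext (hc a.1 a.2 a'.1 a'.2).eq
  let π : A × A' →* ↥(A ⊔ A') := i₁.noncommCoprod i₂ hci
  let θ : A × A' →* H := φ.noncommCoprod φ' hi
  have hπ : ∀ a a', π (a, a') = i₁ a * i₂ a' := fun _ _ => rfl
  have hθ : ∀ a a', θ (a, a') = φ a * φ' a' := fun _ _ => rfl
  have hs : Function.Surjective π := by
    have hle : A ⊔ A' ≤ π.range.map (A ⊔ A').subtype := by
      refine sup_le (fun a ha => ⟨i₁ ⟨a, ha⟩, ⟨(⟨a, ha⟩, 1), ?_⟩, rfl⟩)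
        (fun a ha => ⟨i₂ ⟨a, ha⟩, ⟨(1, ⟨a, ha⟩), ?_⟩, rfl⟩)
      · rw [hπ, map_one, mul_one]
      · rw [hπ, map_one, one_mul]
    rintro ⟨g, hg⟩
    obtain ⟨y, ⟨x, hx⟩, hy⟩ := hle hg
    exact ⟨x, hx.trans (Subtype.ext hy)⟩
  have hk : π.ker ≤ θ.ker := by
    rintro ⟨a, a'⟩ h
    have h1 : (a : Γ) * a' = 1 := congrArg Subtype.val (MonoidHom.mem_ker.1 h)
    have h2 : (a' : Γ) = (a : Γ)⁻¹ := eq_inv_of_mul_eq_one_right h1
    have ha : (a' : Γ) ∈ A := h2 ▸ inv_mem a.2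
    have h3 : φ' a' = φ ⟨a', ha⟩ := (he _ ha a'.2).symm
    rw [MonoidHom.mem_ker, hθ, h3, ← map_mul, show a * ⟨a', ha⟩ = 1 from Subtype.ext h1, map_one]
  refine ⟨π.liftOfSurjective hs ⟨θ, hk⟩, fun g h => ?_, fun g h => ?_⟩
  · have e : (⟨g, mem_sup_left h⟩ : ↥(A ⊔ A')) = π (⟨g, h⟩, 1) := by
      rw [hπ, map_one, mul_one]; rfl
    rw [e, MonoidHom.liftOfRightInverse_comp_apply]
    exact (hθ _ _).trans (by rw [map_one, mul_one])
  · have e : (⟨g, mem_sup_right h⟩ : ↥(A ⊔ A')) = π (1, ⟨g, h⟩) := by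
      rw [hπ, map_one, one_mul]; rfl
    rw [e, MonoidHom.liftOfRightInverse_comp_apply]
    exact (hθ _ _).trans (by rw [map_one, one_mul])

section
variable {Γ H : Type*} [Group Γ] [Group H]

/-- `F` is a homomorphism on `A` -/
def AmRep (F : Γ → H) (A : Subgroup Γ) : Prop := ∃ φ : A →* H, ∀ g h, φ ⟨g, h⟩ = F g

/-- `F` on `A` and on `A'` extends to a homomorphism on `A ⊔ A'` -/
def AmPair (F : Γ → H) (A A' : Subgroup Γ) : Prop :=
  ∃ Ψ : ↥(A ⊔ A') →* H, (∀ g (h : g ∈ A), Ψ ⟨g, mem_sup_left h⟩ = F g) ∧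
    ∀ g (h : g ∈ A'), Ψ ⟨g, mem_sup_right h⟩ = F g

variable {F : Γ → H} {A A' B B' : Subgroup Γ}

theorem AmRep.mono (h : AmRep F B) (hA : A ≤ B) : AmRep F A := by
  obtain ⟨φ, hφ⟩ := h
  exact ⟨φ.comp (inclusion hA), fun g h => hφ g (hA h)⟩

theorem AmPair.mono (h : AmPair F B B') (hA : A ≤ B) (hA' : A' ≤ B') : AmPair F A A' := by
  obtain ⟨Ψ, h1, h2⟩ := h
  exact ⟨Ψ.comp (inclusion (sup_le_sup hA hA')), fun g h => h1 g (hA h), fun g h => h2 g (hA' h)⟩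

theorem AmPair.symm (h : AmPair F A A') : AmPair F A' A := by
  obtain ⟨Ψ, h1, h2⟩ := h
  exact ⟨Ψ.comp (inclusion (sup_comm A' A).le), fun g h => h2 g h, fun g h => h1 g h⟩

theorem AmRep.pair (h : AmRep F B) (hA : A ≤ B) (hA' : A' ≤ B) : AmPair F A A' := by
  obtain ⟨φ, hφ⟩ := h
  exact ⟨φ.comp (inclusion (sup_le hA hA')), fun g h => hφ g (hA h), fun g h => hφ g (hA' h)⟩

theorem AmRep.glue (h : AmRep F A) (h' : AmRep F A') (hc : ∀ a ∈ A, ∀ a' ∈ A', Commute a a')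
    (hi : ∀ a ∈ A, ∀ a' ∈ A', Commute (F a) (F a')) : AmPair F A A' := by
  obtain ⟨φ, hφ⟩ := h
  obtain ⟨φ', hφ'⟩ := h'
  obtain ⟨Ψ, h1, h2⟩ := L3F.glue φ φ' hc
    (fun a a' => by rw [hφ a.1 a.2, hφ' a'.1 a'.2]; exact hi _ a.2 _ a'.2)
    (fun g h h' => by rw [hφ, hφ'])
  exact ⟨Ψ, fun g h => (h1 g h).trans (hφ g h), fun g h => (h2 g h).trans (hφ' g h)⟩

theorem amRep_range {Δ : Type*} [Group Δ] {ι : Δ →* Γ} (hι : Function.Injective ι) (α : Δ →* H)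
    (hF : ∀ g, F (ι g) = α g) : AmRep F ι.range := by
  refine ⟨α.comp (MonoidHom.ofInjective hι).symm.toMonoidHom, ?_⟩
  rintro _ ⟨g, rfl⟩
  rw [hF]
  have : (MonoidHom.ofInjective hι).symm ⟨ι g, g, rfl⟩ = g :=
    (MulEquiv.symm_apply_eq _).2 (Subtype.ext rfl)
  exact congrArg α this

end

theorem am_sw_inv : sw⁻¹ = sw := inv_eq_of_mul_eq_one_right (Subtype.ext (by decide +kernel))

theorem am_fx_sw {u : Sp4} (h : Fx 0 u) : Fx 1 (sw⁻¹ * u * sw) := by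
  intro k hk
  have k0 : k = 0 := by fin_cases k <;> simp_all
  subst k0
  obtain ⟨a, b⟩ := h 1 (by decide)
  have s1 : (sw : Matrix (Fin 2 ⊕ Fin 2) (Fin 2 ⊕ Fin 2) (ZMod 3)).mulVec (Pi.single (Sum.inl 0) 1) =
      Pi.single (Sum.inl 1) 1 := by decide +kernel
  have s2 : (sw : Matrix (Fin 2 ⊕ Fin 2) (Fin 2 ⊕ Fin 2) (ZMod 3)).mulVec (Pi.single (Sum.inl 1) 1) =
      Pi.single (Sum.inl 0) 1 := by decide +kernel
  have s3 : (sw : Matrix (Fin 2 ⊕ Fin 2) (Fin 2 ⊕ Fin 2) (ZMod 3)).mulVec (Pi.single (Sum.inr 0) 1) =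
      Pi.single (Sum.inr 1) 1 := by decide +kernel
  have s4 : (sw : Matrix (Fin 2 ⊕ Fin 2) (Fin 2 ⊕ Fin 2) (ZMod 3)).mulVec (Pi.single (Sum.inr 1) 1) =
      Pi.single (Sum.inr 0) 1 := by decide +kernel
  rw [am_sw_inv]
  simp only [Submonoid.coe_mul, ← Matrix.mulVec_mulVec]
  exact ⟨by rw [s1, a, s2], by rw [s3, b, s4]⟩

/-- `Sp₄(3)` is generated by the three subgroups of the amalgam -/
theorem am_ext {H : Type*} [Group H] (α γ : Sp4 →* H) (h0 : ∀ g, Fx 0 g → γ g = α g)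
    (h1 : ∀ g, Fx 1 g → γ g = α g) (hm : ∀ g, Mx 0 g → γ g = α g) : γ = α := by
  have key := Cfsg.Agent.S3713.result (ZMod 3) ⟨2, by decide, by decide⟩ 2 le_rfl
    (fun j => closure {A | Fx j A}) (fun j => closure {A | Mx j A}) (fun _ => rfl) (fun _ _ => rfl)
    (fun j => α.comp (Subgroup.subtype _)) (fun j => α.comp (Subgroup.subtype _))
    (fun _ _ _ => ⟨α.comp (Subgroup.subtype _), fun _ _ => rfl, fun _ _ => rfl⟩)
    (fun _ _ _ _ _ => ⟨α.comp (Subgroup.subtype _), fun _ _ => rfl, fun _ _ => rfl⟩)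
    (fun _ _ _ => ⟨α.comp (Subgroup.subtype _), fun _ _ => rfl, fun _ _ => rfl⟩)
  refine key.unique ⟨fun j g hg => ?_, fun i hi g hg => ?_⟩ ⟨fun _ _ _ => rfl, fun _ _ _ _ => rfl⟩
  · have hg' := fx_clo.1 hg
    fin_cases j
    · exact h0 g hg'
    · exact h1 g hg'
  · have hg' := mx_clo.1 hg
    fin_cases i
    · exact hm g hg'
    · simp at hi

theorem am {H : Type*} [Group H] (α β : Sp4 →* H) (h1 : ∀ g, Fx 1 g → β (sw * g * sw⁻¹) = α g)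
    (h2 : ∀ g, Fx 0 g → ∀ u, Commute (α g) (β u)) (h3 : ∀ g, Fx 1 g → ∀ u, Commute (β g) (α u))
    (h4 : Commute (α xr) (β xr)) (h5 : α (ε0 * ε1) * β ε1 = 1) (h6 : α ε1 ≠ 1) (h7 : α.range ⊔ β.range = ⊤) :
    Nonempty (H ≃* Cfsg.PSp 3 (ZMod 3)) := by
  classical
  obtain ⟨ι₀, ι₁, E⟩ := exists_emb
  have hab : ∀ g u, ι₀ g = ι₁ u → α g = β u := fun g u e => by
    have f := E.inter g u e
    rw [← h1 g f, E.inj1 ((E.sw1 g f).trans e)]
  obtain ⟨F, F0, F1⟩ : ∃ F : Sp6 → H, (∀ g, F (ι₀ g) = α g) ∧ ∀ u, F (ι₁ u) = β u := by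
    refine ⟨fun A => if h : ∃ g, ι₀ g = A then α h.choose else
      if h : ∃ g, ι₁ g = A then β h.choose else 1, fun g => ?_, fun u => ?_⟩
    · have h : ∃ g', ι₀ g' = ι₀ g := ⟨g, rfl⟩
      simp only [dif_pos h]
      rw [E.inj0 h.choose_spec]
    · by_cases h : ∃ g, ι₀ g = ι₁ u
      · simp only [dif_pos h]
        exact hab _ _ h.choose_spec
      · have h' : ∃ g', ι₁ g' = ι₁ u := ⟨u, rfl⟩
        simp only [dif_neg h, dif_pos h']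
        rw [E.inj1 h'.choose_spec]
  have R0 : AmRep F ι₀.range := amRep_range E.inj0 α F0
  have R1 : AmRep F ι₁.range := amRep_range E.inj1 β F1
  let S : Fin 3 → Subgroup Sp6 := fun j => closure {A | Fx j A}
  let M : Fin 3 → Subgroup Sp6 := fun j => closure {A | Mx j A}
  have mS0 : ∀ A ∈ S 0, ∃ g, Fx 0 g ∧ ι₀ g = A := fun A h => (E.s0 A).1 (fx_clo.1 h)
  have mS1 : ∀ A ∈ S 1, ∃ g, Fx 1 g ∧ ι₀ g = A := fun A h => (E.s1 A).1 (fx_clo.1 h)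
  have mS2 : ∀ A ∈ S 2, ∃ g, Fx 1 g ∧ ι₁ g = A := fun A h => (E.s2 A).1 (fx_clo.1 h)
  have mM0 : ∀ A ∈ M 0, ∃ g, Mx 0 g ∧ ι₀ g = A := fun A h => (E.m0 A).1 (mx_clo.1 h)
  have mM1 : ∀ A ∈ M 1, ∃ g, Mx 0 g ∧ ι₁ g = A := fun A h => (E.m1 A).1 (mx_clo.1 h)
  have l00 : S 0 ≤ ι₀.range := fun A h => (mS0 A h).imp fun _ h => h.2
  have l10 : S 1 ≤ ι₀.range := fun A h => (mS1 A h).imp fun _ h => h.2
  have l11 : S 1 ≤ ι₁.range := fun A h => by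
    obtain ⟨g, hg, rfl⟩ := mS1 A h
    exact ⟨_, E.sw1 g hg⟩
  have l21 : S 2 ≤ ι₁.range := fun A h => (mS2 A h).imp fun _ h => h.2
  have m00 : M 0 ≤ ι₀.range := fun A h => (mM0 A h).imp fun _ h => h.2
  have m11 : M 1 ≤ ι₁.range := fun A h => (mM1 A h).imp fun _ h => h.2
  have P01 : AmPair F (S 0) ι₁.range := by
    refine (R0.mono l00).glue R1 ?_ ?_ <;> intro a ha a' ha' <;> obtain ⟨g, hg, rfl⟩ := mS0 a ha <;>
      obtain ⟨u, rfl⟩ := ha'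
    · exact E.c0 g u hg
    · rw [F0, F1]; exact h2 g hg u
  have P20 : AmPair F (S 2) ι₀.range := by
    refine (R1.mono l21).glue R0 ?_ ?_ <;> intro a ha a' ha' <;> obtain ⟨g, hg, rfl⟩ := mS2 a ha <;>
      obtain ⟨u, rfl⟩ := ha'
    · exact E.c2 g u hg
    · rw [F0, F1]; exact h3 g hg u
  have sw0 : ∀ u, Fx 0 u → ι₀ (sw⁻¹ * u * sw) = ι₁ u := fun u hu => by
    rw [← E.sw1 _ (am_fx_sw hu)]; congr 1; group
  have cA : ∀ g u, Fx 1 g → Mx 0 g → Mx 0 u → Commute (α g) (β u) := fun g u f hg hu => by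
    have c := E.cm g u hg hu
    rw [← E.sw1 g f] at c
    rw [← h1 g f]
    exact (Commute.of_map E.inj1 c).map β
  have cB : ∀ g u, Fx 0 u → Mx 0 g → Mx 0 u → Commute (α g) (β u) := fun g u f hg hu => by
    have c := E.cm g u hg hu
    rw [← sw0 u f] at c
    rw [← hab _ _ (sw0 u f)]
    exact (Commute.of_map E.inj0 c).map α
  have PM : AmPair F (M 0) (M 1) := by
    refine (R0.mono m00).glue (R1.mono m11) ?_ ?_ <;> intro a ha a' ha' <;>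
      obtain ⟨g, hg, rfl⟩ := mM0 a ha <;> obtain ⟨u, hu, rfl⟩ := mM1 a' ha'
    · exact E.cm g u hg hu
    · rw [F0, F1]
      obtain ⟨g₀, g₁, n, a0, a1, -, b1, rfl⟩ := mx_dec hg
      rw [map_mul, map_mul, map_pow]
      refine ((h2 g₀ a0 u).mul_left (Commute.pow_left ?_ n)).mul_left (cA g₁ u a1 b1 hu)
      obtain ⟨u₀, u₁, m, c0, c1, d0, -, rfl⟩ := mx_dec hu
      rw [map_mul, map_mul, map_pow]
      exact ((cB xr u₀ c0 mx_xr d0).mul_right (h4.pow_right m)).mul_right (h3 u₁ c1 xr).symm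
  have RS : ∀ j, AmRep F (S j) := fun j => by
    fin_cases j
    exacts [R0.mono l00, R0.mono l10, R1.mono l21]
  have RM : ∀ i : Fin 3, ∃ φ : M i →* H, (i : ℕ) + 1 < 3 → ∀ g h, φ ⟨g, h⟩ = F g := fun i => by
    fin_cases i
    · exact (R0.mono m00).imp fun _ h _ => h
    · exact (R1.mono m11).imp fun _ h _ => h
    · exact ⟨1, fun h => by simp at h⟩
  choose σ hσ using RS
  choose μ hμ using RM
  have SS : ∀ j l : Fin 3, j ≠ l → AmPair F (S j) (S l) := fun j l h => by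
    fin_cases j <;> fin_cases l
    exacts [(h rfl).elim, R0.pair l00 l10, P01.mono le_rfl l21, R0.pair l10 l00, (h rfl).elim,
      R1.pair l11 l21, P20.mono le_rfl l00, R1.pair l21 l11, (h rfl).elim]
  have MM : ∀ i i' : Fin 3, i ≠ i' → (i : ℕ) + 1 < 3 → (i' : ℕ) + 1 < 3 → AmPair F (M i) (M i') :=
    fun i i' h hi hi' => by
      fin_cases i <;> fin_cases i'
      exacts [(h rfl).elim, PM, by simp at hi', PM.symm, (h rfl).elim, by simp at hi', by simp at hi,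
        by simp at hi, by simp at hi]
  have MS : ∀ i j : Fin 3, (i : ℕ) + 1 < 3 → AmPair F (M i) (S j) := fun i j hi => by
    fin_cases i <;> fin_cases j
    exacts [R0.pair m00 l00, R0.pair m00 l10, (P20.mono le_rfl m00).symm, (P01.mono le_rfl m11).symm,
      R1.pair m11 l11, R1.pair m11 l21, by simp at hi, by simp at hi, by simp at hi]
  obtain ⟨Φ, ⟨ΦS, ΦM⟩, -⟩ := Cfsg.Agent.S3713.result (ZMod 3) ⟨2, by decide, by decide⟩ 3 (by decide)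
    S M (fun _ => rfl) (fun _ _ => rfl) σ μ
    (fun j l h => (SS j l h).imp fun _ hΨ =>
      ⟨fun g hg => (hΨ.1 g hg).trans (hσ j g hg).symm, fun g hg => (hΨ.2 g hg).trans (hσ l g hg).symm⟩)
    (fun i i' h hi hi' => (MM i i' h hi hi').imp fun _ hΨ =>
      ⟨fun g hg => (hΨ.1 g hg).trans (hμ i hi g hg).symm,
        fun g hg => (hΨ.2 g hg).trans (hμ i' hi' g hg).symm⟩)
    (fun i j hi => (MS i j hi).imp fun _ hΨ =>
      ⟨fun g hg => (hΨ.1 g hg).trans (hμ i hi g hg).symm, fun g hg => (hΨ.2 g hg).trans (hσ j g hg).symm⟩)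
  have fS : ∀ (j : Fin 3) A, Fx j A → Φ A = F A := fun j A h =>
    (ΦS j A (fx_clo.2 h)).trans (hσ j A _)
  have fM : ∀ (i : Fin 3), (i : ℕ) + 1 < 3 → ∀ A, Mx i A → Φ A = F A := fun i hi A h =>
    (ΦM i hi A (mx_clo.2 h)).trans (hμ i hi A _)
  have e0 : Φ.comp ι₀ = α := am_ext _ _
    (fun g h => (fS 0 _ ((E.s0 _).2 ⟨g, h, rfl⟩)).trans (F0 g))
    (fun g h => (fS 1 _ ((E.s1 _).2 ⟨g, h, rfl⟩)).trans (F0 g))
    (fun g h => (fM 0 (by decide) _ ((E.m0 _).2 ⟨g, h, rfl⟩)).trans (F0 g))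
  have e1 : Φ.comp ι₁ = β := am_ext _ _
    (fun g h => (fS 1 _ ((E.s1 _).2 ⟨_, am_fx_sw h, sw0 g h⟩)).trans (F1 g))
    (fun g h => (fS 2 _ ((E.s2 _).2 ⟨g, h, rfl⟩)).trans (F1 g))
    (fun g h => (fM 1 (by decide) _ ((E.m1 _).2 ⟨g, h, rfl⟩)).trans (F1 g))
  have a0 : ∀ g, Φ (ι₀ g) = α g := fun g => DFunLike.congr_fun e0 g
  have a1 : ∀ g, Φ (ι₁ g) = β g := fun g => DFunLike.congr_fun e1 g
  have hs : Function.Surjective Φ := by
    rw [← MonoidHom.range_eq_top, eq_top_iff, ← h7]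
    exact sup_le (by rintro _ ⟨g, rfl⟩; exact ⟨_, a0 g⟩) (by rintro _ ⟨g, rfl⟩; exact ⟨_, a1 g⟩)
  have hk : center Sp6 ≤ Φ.ker := fun A hA => by
    rw [MonoidHom.mem_ker]
    rcases E.cen A hA with rfl | rfl
    · exact map_one _
    · rw [map_mul, a0, a1, h5]
  haveI : IsSimpleGroup (Cfsg.PSp 3 (ZMod 3)) :=
    Cfsg.Agent.S0270.result 3 (by decide) (fun h => by simp at h)
  let Ψ : Cfsg.PSp 3 (ZMod 3) →* H := QuotientGroup.lift (center Sp6) Φ hk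
  have hΨ : ∀ A : Sp6, Ψ (QuotientGroup.mk A) = Φ A := fun _ => rfl
  have hi : Function.Injective Ψ := by
    rw [← MonoidHom.ker_eq_bot_iff]
    refine (Ψ.normal_ker.eq_bot_or_eq_top).resolve_right fun h => h6 ?_
    rw [← a0, ← hΨ]
    exact MonoidHom.mem_ker.1 (h ▸ mem_top _)
  refine ⟨(MulEquiv.ofBijective Ψ ⟨hi, fun y => ?_⟩).symm⟩
  obtain ⟨A, rfl⟩ := hs y
  exact ⟨_, hΨ A⟩

end CfsgLib.L3F
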