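import Mathlib
import Cfsg.Agent.Lib.L3F.Defs
import Cfsg.Agent.Lib.L3F.Sc
import Cfsg.Agent.S1173
import Cfsg.Agent.Lib.L33.Tool
import Cfsg.Agent.Lib.Fgs.SymSolv
import Cfsg.Agent.Lib.Transfer.Thompson

/-! Standard `L₃(3)`, the case `PSp₆(3)`, package Qa: Goldschmidt's theorem in `C / W ⟨z⟩`.  See `plans/L3F.md`. -/

set_option autoImplicit false
set_option linter.unusedSectionVars false

namespace CfsgLib.L3F

open Subgroup CfsgLib.Tech CfsgLib.L33 CfsgLib.PComp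

variable {G : Type*} [Group G] [Finite G]

namespace Qa

variable {X H : Type*} [Group X] [Finite X] [Group H] [Finite H] {π : X →* H} {z : X}

theorem core_bot (hs : Function.Surjective π) (hz : π z = 1) (hc : ∀ u, u * z = z * u)
    (hW : Cfsg.pPrimeCore 2 X ≤ π.ker) (h2 : ∀ u k, π u = 1 → u ^ 2 ^ k = 1 → u = 1 ∨ u = z) :
    Cfsg.pPrimeCore 2 H = ⊥ := by
  haveI : Fact (Nat.Prime 2) := ⟨Nat.prime_two⟩
  haveI : (Cfsg.pPrimeCore 2 H).Normal := opOf_top (p := 2) (G := H) ▸ opOf_normal ⊤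
  set U := (Cfsg.pPrimeCore 2 H).comap π with hU
  obtain ⟨P⟩ : Nonempty (Sylow 2 U) := inferInstance
  have hP : ∀ p ∈ (P : Subgroup U), (p : X) = 1 ∨ (p : X) = z := fun p hp => by
    obtain ⟨k, hk⟩ := isPGroup_iff_mem.1 P.2 p hp
    replace hk : (p : X) ^ 2 ^ k = 1 := by simpa using congrArg Subtype.val hk
    refine h2 p k ?_ hk
    have h1 : orderOf (π p) ∣ 2 ^ k := orderOf_dvd_of_pow_eq_one (by rw [← map_pow, hk, map_one])
    have h3 := (Core.coprime_card_pPrimeCore 2 H).coprime_dvd_left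
      (Subgroup.orderOf_dvd_natCard (Cfsg.pPrimeCore 2 H) (mem_comap.1 p.2))
    exact orderOf_eq_one_iff.1 ((h3.pow_right k).eq_one_of_dvd h1)
  have hn : normalizer (P : Set U) ≤ centralizer (P : Set U) := fun g _ p hp => Subtype.ext (by
    rcases hP p hp with e | e
    · simp [e]
    · simp [e, hc])
  have c := MonoidHom.ker_transferSylow_isComplement' P hn
  have l : (MonoidHom.transferSylow P hn).ker ≤ Cfsg.pPrimeCore 2 U := Core.le_pPrimeCore (by
    rw [← c.index_eq_card]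
    exact ((Nat.Prime.coprime_iff_not_dvd Nat.prime_two).2 P.not_dvd_index).symm)
  haveI := opOf_normal (p := 2) U
  have l2 : opOf 2 U ≤ Cfsg.pPrimeCore 2 X := Core.le_pPrimeCore (coprime_card_opOf U)
  refine eq_bot_iff.2 fun y hy => ?_
  obtain ⟨u, rfl⟩ := hs y
  obtain ⟨⟨k, p⟩, e⟩ := (c.existsUnique (⟨u, hy⟩ : U)).exists
  replace e : (k.1 : X) * (p.1 : X) = u := congrArg Subtype.val e
  have k1 : π k.1 = 1 := hW (l2 (mem_opOf_iff.2 (l k.2)))
  rw [mem_bot, ← e, map_mul, k1, one_mul]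
  rcases hP p.1 p.2 with e | e <;> rw [e]
  exacts [map_one π, hz]

theorem lift_conj (h2 : ∀ u k, π u = 1 → u ^ 2 ^ k = 1 → u = 1 ∨ u = z) {q s : X}
    (hq : IsPGroup 2 (zpowers q)) (hs : IsPGroup 2 (zpowers s)) (e : π q = π s) :
    ∃ d, d * q * d⁻¹ = s ∨ d * q * d⁻¹ = s * z := by
  haveI : Fact (Nat.Prime 2) := ⟨Nat.prime_two⟩
  obtain ⟨R, hR, hsR⟩ := exists_isSylowIn_ge (H := (zpowers (π s)).comap π) hs
    (zpowers_le.2 (mem_zpowers _))
  obtain ⟨d, hd, m⟩ := hR.exists_conj_mem (x := q) (by rw [mem_comap, e]; exact mem_zpowers _) hq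
  obtain ⟨k, hk⟩ := isPGroup_iff_mem.1 hR.pgroup _ (mul_mem (inv_mem (hsR (mem_zpowers s))) m)
  obtain ⟨j, hj⟩ := mem_zpowers_iff.1 (mem_comap.1 hd)
  refine ⟨d, (h2 _ k ?_ hk).imp (fun h => ?_) fun h => ?_⟩
  · rw [map_mul, map_mul, map_mul, map_inv, map_inv, e, ← hj]
    group
  · exact (inv_mul_eq_one.1 h).symm
  · exact inv_mul_eq_iff_eq_mul.1 h

theorem core_eq (Y : Type*) [Group Y] [Finite Y] :
    ∃ m, (⨅ n : ℕ, derivedSeries Y n) = derivedSeries Y m := by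
  obtain ⟨_, ⟨m, rfl⟩, hm⟩ := wellFounded_lt.has_min (Set.range (derivedSeries Y)) ⟨_, 0, rfl⟩
  have a : Antitone (derivedSeries Y) := antitone_nat_of_succ_le fun n => by
    rw [derivedSeries_succ]
    exact commutator_le_left _ _
  refine ⟨m, le_antisymm (iInf_le _ m) (le_iInf fun n => ?_)⟩
  rcases le_total n m with h | h
  · exact a h
  · exact (eq_of_le_of_not_lt (a h) (hm _ ⟨n, rfl⟩)).ge

theorem sol {N : Type*} [Group N] (ψ : N →* H) {V : Subgroup H} (h4 : Nat.card V ≤ 4)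
    (hn : ∀ g, ψ g ∈ normalizer (V : Set H)) : ∃ n, (derivedSeries N n).map ψ ≤
      (⨅ n : ℕ, derivedSeries (centralizer (V : Set H)) n).map (centralizer (V : Set H)).subtype := by
  obtain ⟨m, hm⟩ := core_eq (centralizer (V : Set H))
  obtain ⟨n, h0⟩ := (Fgs.isSolvable_perm_of_card_le_four V h4).solvable
  let α : N →* Equiv.Perm V :=
    (MulAut.toPerm V).comp (V.normalizerMonoidHom.comp (ψ.codRestrict _ hn))
  have b : (derivedSeries N n).map ψ ≤ centralizer (V : Set H) := by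
    rintro _ ⟨g, hg, rfl⟩
    have := map_derivedSeries_le_derivedSeries α n (mem_map_of_mem α hg)
    rw [h0, mem_bot] at this
    have k : (⟨ψ g, hn g⟩ : normalizer (V : Set H)) ∈ V.normalizerMonoidHom.ker :=
      MulEquiv.ext fun v => DFunLike.congr_fun this v
    rw [normalizerMonoidHom_ker] at k
    exact k
  have key : ∀ j, (derivedSeries N (n + j)).map ψ ≤
      (derivedSeries (centralizer (V : Set H)) j).map (centralizer (V : Set H)).subtype := by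
    intro j
    induction j with
    | zero => rwa [derivedSeries_zero, ← MonoidHom.range_eq_map, range_subtype]
    | succ j ih =>
      rw [← add_assoc, derivedSeries_succ, derivedSeries_succ, map_commutator, map_commutator]
      exact commutator_mono ih ih
  exact ⟨n + m, hm ▸ key m⟩

theorem perf (Y : Subgroup H) : (⨅ n : ℕ, derivedSeries Y n).map Y.subtype ≤
    ⁅(⨅ n : ℕ, derivedSeries Y n).map Y.subtype, (⨅ n : ℕ, derivedSeries Y n).map Y.subtype⁆ := by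
  obtain ⟨m, hm⟩ := core_eq Y
  rw [← map_commutator]
  refine map_mono ((iInf_le _ (m + 1)).trans ?_)
  rw [hm, derivedSeries_succ]

theorem cent_mem {K S M : Subgroup H} [K.Normal] (hp : K ≤ ⁅K, K⁆) (hS : ¬ 2 ∣ S.index)
    (hM : ∀ u ∈ S, ∀ v ∈ S, u ∉ M → v ∉ M → u * v ∈ M) {y : H} (hy : y ∈ K) (hyS : y ∈ S)
    (y2 : y * y = 1) (hc : ∀ k ∈ K, k * y = y * k) : y ∈ M := by
  by_contra hn
  have y1 : y ≠ 1 := fun e => hn (e ▸ one_mem M)
  have o : orderOf (⟨y, hy⟩ : K) = 2 := by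
    haveI : Fact (Nat.Prime 2) := ⟨Nat.prime_two⟩
    exact orderOf_eq_prime (Subtype.ext (by simpa [pow_two] using y2)) fun e => y1 (congrArg Subtype.val e)
  have i : ¬ 2 ∣ (S.subgroupOf K).index := fun h => hS (h.trans (by
    have h1 := relIndex_mul_index (inf_le_right : S ⊓ K ≤ K)
    have h2 := relIndex_mul_index (inf_le_left : S ⊓ K ≤ S)
    have h3 := relIndex_mul_index (le_sup_right : K ≤ S ⊔ K)
    rw [inf_relIndex_right] at h1
    rw [inf_relIndex_left, ← relIndex_sup_right] at h2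
    refine ⟨(S ⊔ K).index, mul_left_cancel₀ (a := K.relIndex (S ⊔ K)) FiniteIndex.index_ne_zero ?_⟩
    rw [h2, ← h1, ← h3]
    exact (by rw [relIndex]; ring)))
  rcases Transfer.thompson_transfer (H := S.subgroupOf K) (Q := M.subgroupOf K) i
    (relIndex_eq_two_iff_exists_notMem_and.2 ⟨⟨y, hy⟩, hyS, hn, fun b hb => by
      by_cases e : b ∈ M.subgroupOf K
      exacts [Or.inr e, Or.inl (hM _ hb _ hyS e hn)]⟩) o with ⟨N, -, h2, hN⟩ | ⟨g, hg⟩
  · have : ⁅K, K⁆ ≤ N.map K.subtype := commutator_le.2 fun a ha b hb =>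
      ⟨(⟨a, ha⟩ : K) * (⟨b, hb⟩ : K) * (⟨a, ha⟩ : K)⁻¹ * (⟨b, hb⟩ : K)⁻¹, by
        rw [SetLike.mem_coe, mul_mem_iff_of_index_two h2,
          mul_mem_iff_of_index_two h2, mul_mem_iff_of_index_two h2, inv_mem_iff, inv_mem_iff]
        tauto, rfl⟩
    obtain ⟨u, hu, e⟩ := this (hp hy)
    exact hN ((Subtype.ext e : u = ⟨y, hy⟩) ▸ hu)
  · rw [mem_subgroupOf] at hg
    simp only [coe_mul, coe_inv] at hg
    rw [hc g g.2, mul_inv_cancel_right] at hg
    exact hn hg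

end Qa

namespace Bf

variable (B : Bf G)

theorem qa_aux {H : Type*} [Group H] [Finite H] (π : B.C →* H) (hs : Function.Surjective π)
    (kr : ∀ u : B.C, π u = 1 ↔ (u : G) ∈ B.W ⊔ zpowers B.z) : ∃ M, B.Kp M := by
  haveI : Fact (Nat.Prime 2) := ⟨Nat.prime_two⟩
  have Q3C : B.Q3 ≤ B.C := B.Q3_le.trans (B.Q_le_T0.trans B.T0_le_C)
  have Q3T : B.Q3 ≤ B.T0 := B.Q3_le.trans B.Q_le_T0
  have zC : B.z ∈ B.C := Q3C B.z_Q3
  have cz : ∀ g ∈ B.C, g * B.z = B.z * g := fun g hg => (B.mem_C.1 hg).2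
  have hz : π ⟨B.z, zC⟩ = 1 := (kr _).2 (mem_sup_right (mem_zpowers _))
  have h2 : ∀ (u : B.C) k, π u = 1 → u ^ 2 ^ k = 1 → u = 1 ∨ u = ⟨B.z, zC⟩ := fun u k h1 hk =>
    (B.two_Wz ((kr u).1 h1) (k := k) (by simpa using congrArg Subtype.val hk)).imp Subtype.ext Subtype.ext
  have hO := Qa.core_bot hs hz (fun u => Subtype.ext (cz u u.2))
    (fun u hu => (kr u).2 (mem_sup_left (mem_opOf_iff.2 hu))) h2
  have two : ∀ u : B.C, (u : G) ∈ B.T0 → ∃ k, u ^ 2 ^ k = 1 := fun u hu => by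
    obtain ⟨k, hk⟩ := isPGroup_iff_mem.1 B.sylC.pgroup u hu
    exact ⟨k, Subtype.ext (by simpa using hk)⟩
  set V := (B.Q3.subgroupOf B.C).map π with hV
  have hN := Cfsg.Agent.S1173.result hO (B.sylC.toSylow.mapSurjective hs) V ⟨map_mono fun u hu => Q3T hu, by
    rintro _ ⟨q, hq, rfl⟩ g hg
    obtain ⟨c, rfl⟩ := hs g
    obtain ⟨s, hs', e⟩ := hg
    obtain ⟨k, hk⟩ := two q (Q3T hq)
    obtain ⟨j, hj⟩ := two s hs'
    rw [← map_inv, ← map_mul, ← map_mul] at e ⊢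
    obtain ⟨d, hd⟩ := Qa.lift_conj h2 (q := c * q * c⁻¹) (s := s)
      (isPGroup_zpowers_of_pow (k := k) (by rw [conj_pow, hk, mul_one, mul_inv_cancel]))
      (isPGroup_zpowers_of_pow hj) e.symm
    have e1 : ((d * (c * q * c⁻¹) * d⁻¹ : B.C) : G) = (d * c : B.C) * (q : G) * ((d * c : B.C) : G)⁻¹ := by
      simp only [coe_mul, coe_inv]
      group
    have m : d * (c * q * c⁻¹) * d⁻¹ ∈ B.Q3.subgroupOf B.C := by
      rw [mem_subgroupOf, e1]
      refine B.sc hq (d * c).2 ?_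
      rw [← e1]
      rcases hd with h | h <;> rw [h]
      exacts [hs', mul_mem hs' (Q3T B.z_Q3)]
    refine ⟨_, m, ?_⟩
    rcases hd with h | h <;> rw [h, ← e]
    rw [map_mul, hz, mul_one]⟩
  have hp := Qa.perf (centralizer (V : Set H))
  have h4 : Nat.card V ≤ 4 := by
    have w3 : B.w3 ∈ B.Q3 := subset_closure (by simp)
    have k3 : B.k3 ∈ B.Q3 := subset_closure (by simp)
    have w2 : π ⟨B.w3, Q3C w3⟩ ^ 2 = 1 := by
      rw [← map_pow, ← hz]
      rfl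
    have : Function.Surjective fun a : Fin 2 × Fin 2 => (⟨π ⟨B.w3, Q3C w3⟩ ^ a.1.val * π ⟨B.k3, Q3C k3⟩ ^ a.2.val,
        mul_mem (pow_mem (mem_map_of_mem π w3) _) (pow_mem (mem_map_of_mem π k3) _)⟩ : V) := by
      rintro ⟨_, q, hq, rfl⟩
      obtain ⟨a, ha⟩ := B.mem_Q3.1 hq
      have e : q = ⟨B.w3, Q3C w3⟩ ^ a.1.val * ⟨B.k3, Q3C k3⟩ ^ a.2.val := Subtype.ext (by
        refine ha.trans ?_; simp [Lf.ev])
      refine ⟨(⟨a.1.val % 2, Nat.mod_lt _ two_pos⟩, ⟨a.2.val, a.2.val_lt⟩), Subtype.ext ?_⟩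
      simp only [e, map_mul, map_pow]
      rw [← pow_eq_pow_mod _ w2]
    simpa using Nat.card_le_card_of_surjective _ this
  obtain ⟨n, hn⟩ := Qa.sol (π.comp (inclusion (inf_le_left : B.C ⊓ normalizer (B.Q3 : Set G) ≤ B.C))) h4
    fun g => mem_normalizer_of_forall (by
      rintro _ ⟨q, hq, rfl⟩
      rw [MonoidHom.comp_apply, ← map_inv, ← map_mul, ← map_mul]
      exact mem_map_of_mem π (mem_subgroupOf.2 (conj_mem_of_mem_normalizer g.2.2 (mem_subgroupOf.1 hq))))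
  have hC := map_subtype_le (H := centralizer (V : Set H)) (⨅ n : ℕ, derivedSeries _ n)
  generalize (⨅ n : ℕ, derivedSeries (centralizer (V : Set H)) n).map (centralizer (V : Set H)).subtype = K
    at hN hp hn hC
  refine ⟨(K.comap π).map B.C.subtype, map_subtype_le _, ?_, ⟨⟨B.z, zC⟩, ?_, rfl⟩, ?_, ⟨n, ?_⟩, ?_⟩
  · rintro g hg _ ⟨m, hm, rfl⟩
    exact ⟨_, (hN.comap π).conj_mem m hm ⟨g, hg⟩, rfl⟩
  · rw [SetLike.mem_coe, mem_comap, hz]
    exact one_mem _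
  · rintro _ ⟨m, hm, rfl⟩ q hq
    refine (kr (m * ⟨q, Q3C hq⟩ * m⁻¹ * ⟨q, Q3C hq⟩⁻¹)).1 ?_
    rw [map_mul, map_mul, map_mul, map_inv, map_inv, ← hC hm _ (mem_map_of_mem π (x := ⟨q, Q3C hq⟩) hq)]
    group
  · rintro _ ⟨g, hg, rfl⟩
    exact ⟨_, hn (mem_map_of_mem _ hg), rfl⟩
  · rintro _ hq ⟨q, hm, rfl⟩
    replace hq : (q : G) ∈ B.Q3 := hq
    change (q : G) ∈ _
    rcases B.sq_Q3 B.σ1 hq with e | e | e
    · exact e ▸ one_mem _
    · exact e ▸ mem_zpowers _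
    obtain ⟨M, hM, zM, qM, hi⟩ := B.exists_max B.σ1 hq e
    obtain ⟨m, mM, e'⟩ := Qa.cent_mem (S := (B.sylC.toSylow.mapSurjective hs : Subgroup H))
      (M := (M.subgroupOf B.C).map π) hp (Sylow.not_dvd_index _) (by
        rintro _ ⟨u, hu, rfl⟩ _ ⟨v, hv, rfl⟩ h1 h3
        rw [← map_mul]
        exact mem_map_of_mem π (hi u hu v hv (fun h => h1 (mem_map_of_mem π h))
          fun h => h3 (mem_map_of_mem π h))) hm (mem_map_of_mem π (Q3T hq))
      (by rw [← map_mul, ← hz]; exact congrArg π (Subtype.ext e))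
      fun k hk => (hC hk _ (mem_map_of_mem π hq)).symm
    obtain ⟨k, hk⟩ := two (m⁻¹ * q) (mul_mem (inv_mem (hM mM)) (Q3T hq))
    refine absurd ?_ qM
    rcases h2 _ k (by rw [map_mul, map_inv, e', inv_mul_cancel]) hk with h | h
    · rw [← inv_mul_eq_one.1 h]
      exact mM
    · rw [inv_mul_eq_iff_eq_mul.1 h]
      exact mul_mem mM zM

theorem exists_kp : ∃ M, B.Kp M := by
  have cz : ∀ g ∈ B.C, g * B.z = B.z * g := fun g hg => (B.mem_C.1 hg).2
  have nZ : B.C ≤ normalizer ((B.W ⊔ zpowers B.z : Subgroup G) : Set G) := fun g hg =>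
    mem_normalizer_iff_cj.2 (by
      rw [cj_sup, mem_normalizer_iff_cj.1 (B.norm_W (cz g hg)), cj_zpowers, cz g hg, mul_inv_cancel_right])
  haveI : ((B.W ⊔ zpowers B.z).subgroupOf B.C).Normal :=
    ⟨fun n hn g => mem_subgroupOf.2 (conj_mem_of_mem_normalizer (nZ g.2) (mem_subgroupOf.1 hn))⟩
  exact B.qa_aux (QuotientGroup.mk' ((B.W ⊔ zpowers B.z).subgroupOf B.C)) (QuotientGroup.mk'_surjective _)
    fun u => QuotientGroup.eq_one_iff u

end Bf

end CfsgLib.L3F
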