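import Mathlib
import Cfsg.Agent.Lib.L3F.Defs
import Cfsg.Agent.Lib.L3F.Qa
import Cfsg.Agent.Lib.L3F.Ns
import Cfsg.Agent.Lib.L3F.Ww
import Cfsg.Agent.Lib.L33.Tool

/-! Standard `L₃(3)`, the case `PSp₆(3)`, package Qb: the group `N z`.  See `plans/L3F.md`. -/

set_option autoImplicit false
set_option linter.unusedSectionVars false

namespace CfsgLib.L3F

open Subgroup CfsgLib.Tech CfsgLib.L33 CfsgLib.PComp
open scoped commutatorElement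

variable {G : Type*} [Group G] [Finite G]

namespace Bf

variable (B : Bf G)

theorem qb_zE : B.z ∈ B.E := B.toLf.mem_E.2 (Or.inr (Or.inl rfl))

theorem qb_NC : B.N B.z ≤ B.C := B.N_le B.qb_zE

theorem qb_le {M : Subgroup G} (h : B.Kp M) : B.N B.z ≤ M := by
  obtain ⟨g, hg, ge⟩ := B.exists_g0
  obtain ⟨n, hn⟩ := h.sol
  have h0 : B.T0 ≤ B.C ⊓ normalizer (B.Q3 : Set G) := fun u hu => ⟨B.T0_le_C hu, B.toLf.norm_Q3 (B.toLf.T0_le hu)⟩
  refine B.N_le_of h.norm (B.ns3 (M := M ⊓ (B.C ⊓ normalizer (B.Q3 : Set G))) h0 inf_le_left ⟨B.l_C, B.l_norm⟩ hg ge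
    (fun a ha m hm => ⟨h.norm a ha.1 m hm.1, Subgroup.mul_mem _ (Subgroup.mul_mem _ ha hm.2) (Subgroup.inv_mem _ ha)⟩)
    ⟨h.zM, h0 (B.toLf.Q_le_T0 (B.toLf.E_le_Q B.qb_zE))⟩ inf_le_right ⟨n, le_inf hn (map_subtype_le _)⟩).1

theorem qb_cent : B.W ⊔ zpowers B.z ≤ centralizer (B.N B.z : Set G) :=
  sup_le (fun _ hu _ hn => (B.N_W hu hn).symm) (zpowers_le.2 fun _ hn => (B.mem_C.1 (B.qb_NC hn)).2)

theorem N_inf {u : G} (h : u ∈ B.N B.z) (h0 : u ∈ B.T0) : u ∈ B.T1 := by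
  obtain ⟨M, hM⟩ := B.exists_kp
  obtain ⟨s, hs, q, hq, rfl⟩ := B.toLf.T0_dec B.σ1 h0
  have := hM.q3 q hq (B.qb_le hM ((mul_mem_cancel_left (B.T1_le_N hs)).1 h))
  exact mul_mem hs (zpowers_le.2 (B.toLf.E_le_T1 B.qb_zE) this)

theorem sylN : IsSylowIn 2 B.T1 (B.N B.z) := by
  have := B.sylC.inf_of_le_normalizer (N := B.N B.z) fun g hg => B.norm_Nz (B.mem_C.1 hg).2
  rwa [inf_eq_right.2 B.qb_NC, show B.T0 ⊓ B.N B.z = B.T1 from
    le_antisymm (fun u hu => B.N_inf hu.2 hu.1) (le_inf B.toLf.T1_le B.T1_le_N)] at this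

theorem N_Q3 {n q : G} (h : n ∈ B.N B.z) (hq : q ∈ B.Q3) : n * q = q * n := by
  obtain ⟨M, hM⟩ := B.exists_kp
  have qN : q ∈ normalizer (B.N B.z : Set G) :=
    B.norm_Nz (B.toLf.cz (B.toLf.T0_le (B.toLf.Q_le_T0 (B.toLf.Q3_le hq))))
  have k : ∀ a ∈ B.N B.z, ∃ c ∈ B.N B.z, (∀ b ∈ B.N B.z, Commute b c) ∧ q * a * q⁻¹ = a * c := fun a ha =>
    ⟨a⁻¹ * q * a⁻¹⁻¹ * q⁻¹, by
      rw [inv_inv, mul_assoc, mul_assoc, ← mul_assoc q]
      exact mul_mem (inv_mem ha) (conj_mem_of_mem_normalizer qN ha),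
      fun b hb => B.qb_cent (hM.com _ (B.qb_le hM (inv_mem ha)) q hq) b hb, by group⟩
  rw [← B.N_perfect] at h
  refine mem_centralizer_singleton_iff.1 ((commutator_le (H₃ := centralizer {q})).2 (fun a ha b hb => ?_) h)
  obtain ⟨c, hc, c1, ea⟩ := k a ha
  obtain ⟨d, hd, d1, eb⟩ := k b hb
  rw [mem_centralizer_singleton_iff, eq_comm, ← mul_inv_eq_iff_eq_mul]
  calc q * ⁅a, b⁆ * q⁻¹ = (q * a * q⁻¹) * (q * b * q⁻¹) * (q * a * q⁻¹)⁻¹ * (q * b * q⁻¹)⁻¹ := by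
        rw [commutatorElement_def]; group
    _ = a * (c * (b * d) * c⁻¹) * a⁻¹ * d⁻¹ * b⁻¹ := by rw [ea, eb]; group
    _ = a * b * (d * a⁻¹ * d⁻¹) * b⁻¹ := by
        rw [← (c1 _ (mul_mem hb hd)).eq, mul_inv_cancel_right]; group
    _ = _ := by rw [← (d1 _ (inv_mem ha)).eq, mul_inv_cancel_right, commutatorElement_def]

/-- the centre of `N z` -/
theorem cent_N {u : G} (h : u ∈ B.N B.z) : (∀ n ∈ B.N B.z, u * n = n * u) ↔ u ∈ B.W ⊔ zpowers B.z := by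
  refine ⟨fun hc => ?_, fun hu n hn => (B.qb_cent hu n hn).symm⟩
  obtain ⟨c, hc2, o, ho, rfl, c2, oo⟩ := exists_split u
  set Z := B.N B.z ⊓ centralizer (B.N B.z : Set G) with hZ
  have uZ : zpowers (c * o) ≤ Z := zpowers_le.2 ⟨h, fun n hn => (hc n hn).symm⟩
  have cT : c ∈ B.T1 := B.sylN.le_of_normalizes c2 (zpowers_le.2 (uZ hc2).1)
    (zpowers_le.2 (mem_normalizer_of_forall fun x hx => by
      rw [← (uZ hc2).2 x (B.T1_le_N hx), mul_inv_cancel_right]; exact hx)) (mem_zpowers c)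
  refine (commute_iff_eq c o).1 (((uZ ho).2 c (uZ hc2).1)) ▸ mul_mem (mem_sup_left ?_)
    (mem_sup_right (B.toLf.mem_zz.2 (B.toLf.cent_T1 B.σ1 cT fun v hv => ((uZ hc2).2 v (B.T1_le_N hv)).symm)))
  refine opOf_le_opOf_of_le_normalizer (H := Z) (inf_le_left.trans B.qb_NC) (fun g hg => ?_)
    (le_opOf (zpowers_le.2 (uZ ho)) (fun g hg => mem_normalizer_of_forall fun x hx => ?_) ?_ (mem_zpowers o))
  · have gN := B.norm_Nz (B.mem_C.1 hg).2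
    refine mem_normalizer_of_forall fun x hx => ⟨conj_mem_of_mem_normalizer gN hx.1, fun n hn => ?_⟩
    calc _ = g * (g⁻¹ * n * g * x) * g⁻¹ := by group
      _ = _ := by rw [hx.2 _ (conj_mem_of_mem_normalizer' gN hn)]; group
  · rw [← hg.2 x (zpowers_le.2 (uZ ho).1 hx), mul_inv_cancel_right]; exact hx
  · rw [Nat.card_zpowers]; exact Nat.coprime_two_right.2 oo

end Bf

end CfsgLib.L3F
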