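import Mathlib
import Cfsg.Agent.Lib.L3F.Defs
import Cfsg.Agent.Lib.L3F.Qb
import Cfsg.Agent.Lib.FT.OddOrder
import Cfsg.Agent.Lib.L33.Tool

/-! Standard `L₃(3)`, the case `PSp₆(3)`, package Sol: `C(e) ∩ N z` is solvable.  See `plans/L3F.md`. -/

set_option autoImplicit false
set_option linter.unusedSectionVars false

namespace CfsgLib.L3F

open Subgroup CfsgLib.Tech CfsgLib.L33 CfsgLib.PComp

variable {G : Type*} [Group G] [Finite G]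

namespace SOL

theorem of_syl {T M Z : Subgroup G} (hT : IsSylowIn 2 T Z) (hTM : T ≤ M) (hM : M ≤ Z)
    (hn : ∀ g ∈ Z, ∀ m ∈ M, g * m * g⁻¹ ∈ M) (hs : Group.IsSolvable M) : Group.IsSolvable Z := by
  haveI : (M.subgroupOf Z).Normal := ⟨fun c hc g => mem_subgroupOf.2 (hn g g.2 c (mem_subgroupOf.1 hc))⟩
  have h1 : ¬ 2 ∣ M.relIndex Z := fun h => hT.not_dvd (h.trans (relIndex_dvd_of_le_left Z hTM))
  haveI : Group.IsSolvable (Z ⧸ M.subgroupOf Z) := FT.odd_order_solvable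
    (Nat.not_even_iff_odd.1 fun h => h1 (even_iff_two_dvd.1 h))
  refine Group.isSolvable_of_ker_le_range (inclusion hM) (QuotientGroup.mk' (M.subgroupOf Z)) ?_
  rw [QuotientGroup.ker_mk']
  exact fun x hx => ⟨⟨x, mem_subgroupOf.1 hx⟩, rfl⟩

/-- the elements of `X` centralizing `s` modulo `D` -/
def Cm (X D : Subgroup G) (s : G) (hn : ∀ g ∈ X, ∀ d ∈ D, g * d * g⁻¹ ∈ D) : Subgroup G where
  carrier := {g | g ∈ X ∧ g * s * g⁻¹ * s⁻¹ ∈ D}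
  one_mem' := ⟨X.one_mem, by simp⟩
  mul_mem' := fun {a b} ha hb => ⟨X.mul_mem ha.1 hb.1, by
    have := D.mul_mem (hn _ ha.1 _ hb.2) ha.2
    convert this using 1
    group⟩
  inv_mem' := fun {a} ha => ⟨X.inv_mem ha.1, by
    have := hn _ (X.inv_mem ha.1) _ (D.inv_mem ha.2)
    convert this using 1
    group⟩

theorem solR {X E : Subgroup G} {s : G} (hn : ∀ g ∈ X, ∀ d ∈ E, g * d * g⁻¹ ∈ E)
    (hc : ∀ g ∈ X, ∀ c ∈ E, g * c = c * g) (hEX : E ≤ X) (hE : Group.IsSolvable E)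
    (hC : Group.IsSolvable ↥(X ⊓ centralizer {s})) : Group.IsSolvable (Cm X E s hn) := by
  let χ : Cm X E s hn →* E := MonoidHom.mk' (fun g => ⟨g * s * (g : G)⁻¹ * s⁻¹, g.2.2⟩) fun a b => by
    refine Subtype.ext ?_
    change ((a : G) * b) * s * ((a : G) * b)⁻¹ * s⁻¹ = a * s * (a : G)⁻¹ * s⁻¹ * (b * s * (b : G)⁻¹ * s⁻¹)
    rw [hc _ (hEX a.2.2) _ b.2.2]
    calc _ = (a : G) * (b * s * (b : G)⁻¹ * s⁻¹) * s * (a : G)⁻¹ * s⁻¹ := by group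
      _ = _ := by rw [hc _ a.2.1 _ b.2.2]; group
  have hle : X ⊓ centralizer {s} ≤ Cm X E s hn := fun g hg => ⟨hg.1, by
    rw [mem_centralizer_singleton_iff.1 hg.2]; simp⟩
  refine Group.isSolvable_of_ker_le_range (inclusion hle) χ fun g hg => ⟨⟨g, g.2.1, ?_⟩, rfl⟩
  have h1 : (g : G) * s * (g : G)⁻¹ * s⁻¹ = 1 := congrArg Subtype.val (MonoidHom.mem_ker.1 hg)
  refine mem_centralizer_singleton_iff.2 ?_
  calc (g : G) * s = g * s * (g : G)⁻¹ * s⁻¹ * (s * g) := by group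
    _ = _ := by rw [h1, one_mul]

theorem solY {X D E : Subgroup G} {s : G} (ss : s * s = 1) (hn : ∀ g ∈ X, ∀ d ∈ D, g * d * g⁻¹ ∈ D)
    (hc : ∀ g ∈ X, ∀ c ∈ E, g * c = c * g) (hDX : D ≤ X) (hE : IsSylowIn 2 E D)
    (hC : Group.IsSolvable ↥(X ⊓ centralizer {s})) :
    Group.IsSolvable D ∧ Group.IsSolvable (Cm X D s hn) := by
  haveI : Fact (Nat.Prime 2) := ⟨Nat.prime_two⟩
  have hnE : ∀ g ∈ X, ∀ d ∈ E, g * d * g⁻¹ ∈ E := fun g hg d hd => by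
    rw [hc g hg d hd, mul_inv_cancel_right]; exact hd
  have sE : Group.IsSolvable E := by
    have := hE.pgroup.isNilpotent
    infer_instance
  have sD := of_syl hE le_rfl hE.le (fun g hg => hnE g (hDX hg)) sE
  have sR := solR hnE hc (hE.le.trans hDX) sE hC
  refine ⟨sD, ?_⟩
  have := Core.isSolvable_sup_of_le_normalizer (H := Cm X E s hnE) (N := D)
    fun g hg => mem_normalizer_of_forall (hn g hg.1)
  refine Core.isSolvable_of_le (K := Cm X E s hnE ⊔ D) fun y hy => ?_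
  have si : s⁻¹ = s := inv_eq_of_mul_eq_one_right ss
  set d := y * s * y⁻¹ * s⁻¹ with hd
  have sd : s * d * s⁻¹ = d⁻¹ := by
    calc _ = s * y * s * y⁻¹ * (s * s)⁻¹ := by rw [hd]; group
      _ = s * y * s⁻¹ * y⁻¹ := by rw [ss, si]; group
      _ = _ := by rw [hd]; group
  obtain ⟨c, hc2, o, ho, hco, hcp, hoo⟩ := exists_split d
  have hdD : zpowers d ≤ D := zpowers_le.2 hy.2
  have cE : c ∈ E := hE.le_of_normalizes hcp (zpowers_le.2 (hdD hc2))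
    (zpowers_le.2 (mem_normalizer_of_forall (hnE _ (hDX (hdD hc2))))) (mem_zpowers c)
  obtain ⟨j, hj⟩ := hoo
  have ha : o ^ (j + 1) * o ^ (j + 1) = o := by
    rw [← pow_add, show j + 1 + (j + 1) = orderOf o + 1 by omega, pow_succ, pow_orderOf_eq_one, one_mul]
  have haz : o ^ (j + 1) ∈ zpowers d := pow_mem ho _
  generalize o ^ (j + 1) = a at ha haz
  have sa : s * a * s⁻¹ = a⁻¹ := by
    obtain ⟨k, rfl⟩ := mem_zpowers_iff.1 haz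
    rw [← conj_zpow, sd, inv_zpow]
  have aD := hdD haz
  have h1 : a⁻¹ * y ∈ Cm X E s hnE := by
    refine ⟨X.mul_mem (X.inv_mem (hDX aD)) hy.1, ?_⟩
    have h2 : a⁻¹ * y * s * (a⁻¹ * y)⁻¹ * s⁻¹ = c := by
      calc _ = a⁻¹ * d * (s * a * s⁻¹) := by rw [hd]; group
        _ = a⁻¹ * c * a := by rw [sa, hco, ← ha]; group
        _ = _ := by rw [hc _ (X.inv_mem (hDX aD)) _ cE]; group
    rw [h2]; exact cE
  have := mul_mem (mem_sup_right aD : a ∈ Cm X E s hnE ⊔ D) (mem_sup_left h1)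
  rwa [mul_inv_cancel_left] at this

theorem main {X E M₁ M₂ : Subgroup G} {s : G} (ss : s * s = 1) (h1 : M₁ ≤ X) (h2 : M₂ ≤ X)
    (n1 : ∀ g ∈ X, ∀ m ∈ M₁, g * m * g⁻¹ ∈ M₁) (n2 : ∀ g ∈ X, ∀ m ∈ M₂, g * m * g⁻¹ ∈ M₂)
    (s1 : ∀ m ∈ M₁, s * m * s⁻¹ ∈ M₂) (hE : IsSylowIn 2 E (M₁ ⊓ M₂))
    (hc : ∀ g ∈ X, ∀ c ∈ E, g * c = c * g) (hC : Group.IsSolvable ↥(X ⊓ centralizer {s})) :
    Group.IsSolvable M₁ := by
  have hn : ∀ g ∈ X, ∀ d ∈ M₁ ⊓ M₂, g * d * g⁻¹ ∈ M₁ ⊓ M₂ := fun g hg d hd =>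
    ⟨n1 g hg d hd.1, n2 g hg d hd.2⟩
  obtain ⟨sD, sY⟩ := solY ss hn hc (inf_le_left.trans h1) hE hC
  have si : s⁻¹ = s := inv_eq_of_mul_eq_one_right ss
  have com : ∀ a ∈ M₁, ∀ b ∈ M₂, a * b * a⁻¹ * b⁻¹ ∈ M₁ ⊓ M₂ := fun a ha b hb =>
    mem_inf.2 ⟨by simpa only [mul_assoc] using M₁.mul_mem ha (n1 b (h2 hb) _ (M₁.inv_mem ha)),
      M₂.mul_mem (n2 a (h1 ha) _ hb) (M₂.inv_mem hb)⟩
  set Y := Cm X (M₁ ⊓ M₂) s hn
  haveI : ((M₁ ⊓ M₂).subgroupOf Y).Normal :=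
    ⟨fun c hc g => mem_subgroupOf.2 (hn g g.2.1 c (mem_subgroupOf.1 hc))⟩
  have hY : ∀ m ∈ M₁, m * (s * m * s⁻¹) ∈ Y := fun m hm => by
    refine ⟨X.mul_mem (h1 hm) (h2 (s1 m hm)), ?_⟩
    have := com m hm _ (s1 m hm)
    convert this using 1
    calc _ = m * (s * m * s⁻¹) * (s * s) * m⁻¹ * s⁻¹ * m⁻¹ * s⁻¹ := by group
      _ = m * (s * m * s⁻¹) * m⁻¹ * s * m⁻¹ * s⁻¹ := by rw [ss, mul_one]; nth_rewrite 2 [si]; rfl
      _ = _ := by group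
  let ψ : M₁ →* Y ⧸ (M₁ ⊓ M₂).subgroupOf Y :=
    MonoidHom.mk' (fun m => QuotientGroup.mk ⟨_, hY m m.2⟩) fun a b => by
      rw [← QuotientGroup.mk_mul, QuotientGroup.eq, mem_subgroupOf]
      have := hn _ (X.inv_mem (h2 (s1 b b.2))) _
        ((M₁ ⊓ M₂).inv_mem (com _ (M₁.inv_mem b.2) _ (M₂.inv_mem (s1 a a.2))))
      convert this using 1
      simp only [Subgroup.coe_mul, Subgroup.coe_inv]
      group
  refine Group.isSolvable_of_ker_le_range (inclusion (inf_le_left : M₁ ⊓ M₂ ≤ M₁)) ψ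
    fun m hm => ⟨⟨m, m.2, ?_⟩, rfl⟩
  have h3 := mem_subgroupOf.1 ((QuotientGroup.eq_one_iff _).1 (MonoidHom.mem_ker.1 hm))
  exact (M₂.mul_mem_cancel_right (s1 m m.2)).1 h3.2

end SOL

open SOL NS

namespace Bf

variable (B : Bf G)

theorem sol_tf : Group.IsSolvable (centralizer {B.t * B.f, B.z} : Subgroup G) := by
  have hw : B.w1 ∈ B.P := B.toLf.T0_le (B.toLf.T1_le (w1_T1 _))
  have e1 : B.x * B.w1 * B.t * (B.x * B.w1)⁻¹ = B.t * B.f := by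
    calc _ = B.x * (B.w1 * B.t * B.w1⁻¹) * B.x⁻¹ := by group
      _ = B.x * B.t * B.e * B.x⁻¹ := by rw [B.toLf.w1t]; group
      _ = _ := by rw [B.xt, ← B.xe]; group
  have e2 : B.x * B.w1 * B.z * (B.x * B.w1)⁻¹ = B.z := by
    rw [mul_assoc B.x, B.toLf.cz hw, ← mul_assoc, B.xz]; group
  have := B.kf.h2
  have := Core.isSolvable_of_mulEquiv (cjEquiv (B.x * B.w1) (centralizer {B.t, B.z}))
  refine Core.isSolvable_of_le (K := cj (B.x * B.w1) (centralizer {B.t, B.z})) fun g hg => ?_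
  rw [mem_cj, mem_centralizer_iff]
  rw [mem_centralizer_iff] at hg
  have g1 := hg _ (Set.mem_insert _ _)
  have g2 := hg _ (Set.mem_insert_of_mem _ rfl)
  rw [← e1] at g1
  rw [← e2] at g2
  generalize B.x * B.w1 = c at *
  rintro u (rfl | rfl)
  · calc _ = c⁻¹ * (c * B.t * c⁻¹ * g) * c := by group
      _ = _ := by rw [g1]; group
  · calc _ = c⁻¹ * (c * B.z * c⁻¹ * g) * c := by group
      _ = _ := by rw [g2]; group

theorem sol : Group.IsSolvable ↥(B.N B.z ⊓ centralizer {B.e}) := by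
  haveI : Fact (Nat.Prime 2) := ⟨Nat.prime_two⟩
  have tP : B.t ∈ B.P := subset_closure (by simp)
  have tR : B.t ∈ B.R := subset_closure (by simp)
  have fP : B.f ∈ B.P := subset_closure (by simp)
  have sP : B.t * B.f ∈ B.P := mul_mem tP fP
  have ss : B.t * B.f * (B.t * B.f) = 1 := by
    calc _ = B.t * (B.f * B.t) * B.f := by group
      _ = B.t * B.t * (B.f * B.f) := by rw [B.ft.eq]; group
      _ = _ := by rw [B.tt, B.ff, one_mul]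
  have sz : B.t * B.f * B.z * (B.t * B.f)⁻¹ = B.z := by rw [B.toLf.cz sP]; group
  have se : B.t * B.f * B.e * (B.t * B.f)⁻¹ = B.e * B.z := by
    calc _ = B.t * (B.f * B.e * B.f⁻¹) * B.t⁻¹ := by group
      _ = B.t * B.e * B.t⁻¹ * (B.t * B.z * B.t⁻¹) := by rw [B.toLf.fe]; group
      _ = _ := by rw [B.toLf.ce tR, B.toLf.cz tP]; group
  have sez : B.t * B.f * (B.e * B.z) * (B.t * B.f)⁻¹ = B.e := by
    calc _ = B.t * B.f * B.e * (B.t * B.f)⁻¹ * (B.t * B.f * B.z * (B.t * B.f)⁻¹) := by group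
      _ = _ := by rw [se, sz, mul_assoc, B.toLf.zz, mul_one]
  have sN : ∀ v m, m ∈ B.N v → B.t * B.f * m * (B.t * B.f)⁻¹ ∈ B.N (B.t * B.f * v * (B.t * B.f)⁻¹) :=
    fun v m hm => B.cj_N (B.toLf.norm_E sP) v ▸ conj_mem_cj.2 hm
  have hc : ∀ g ∈ B.X, ∀ c ∈ B.E, g * c = c * g := fun g hg c hc => by
    obtain ⟨-, h1, h2⟩ := B.mem_X.1 hg
    rcases B.toLf.mem_E.1 hc with rfl | rfl | rfl | rfl
    · simp
    · exact h2
    · exact h1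
    · rw [← mul_assoc, h1, mul_assoc, h2, mul_assoc]
  have ezE : B.e * B.z ∈ B.E := mul_mem (e_E _) (z_E _)
  have sX : ∀ m ∈ B.X, B.t * B.f * m * (B.t * B.f)⁻¹ ∈ B.X := fun m hm => by
    have key : ∀ c ∈ B.E, B.t * B.f * m * (B.t * B.f)⁻¹ * (B.t * B.f * c * (B.t * B.f)⁻¹) =
        B.t * B.f * c * (B.t * B.f)⁻¹ * (B.t * B.f * m * (B.t * B.f)⁻¹) := fun c h => by
      calc _ = B.t * B.f * (m * c) * (B.t * B.f)⁻¹ := by group
        _ = _ := by rw [hc m hm c h]; group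
    have k1 := key _ ezE
    have k2 := key _ (z_E _)
    rw [sez] at k1
    rw [sz] at k2
    exact B.mem_X.2 ⟨B.Kn.conj_mem _ (B.mem_X.1 hm).1 _, k1, k2⟩
  have xN : ∀ v ∈ B.E, B.X ≤ normalizer (B.N v : Set G) := fun v hv g hg =>
    B.norm_N (B.mem_X.1 hg).1 (hc g hg v hv)
  have nX : ∀ v ∈ B.E, ∀ w ∈ B.E, ∀ g ∈ B.X, ∀ m ∈ B.X ⊓ B.N v ⊓ B.N w,
      g * m * g⁻¹ ∈ B.X ⊓ B.N v ⊓ B.N w := fun v hv w hw g hg m hm =>
    ⟨⟨B.X.mul_mem (B.X.mul_mem hg hm.1.1) (B.X.inv_mem hg), conj_mem_of_mem_normalizer (xN v hv hg) hm.1.2⟩,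
      conj_mem_of_mem_normalizer (xN w hw hg) hm.2⟩
  have c1 : cj B.θ (B.N B.z) = B.N B.e := by rw [B.cj_N B.θE, B.θz]
  have c2 : cj B.θ (B.N B.e) = B.N (B.e * B.z) := by rw [B.cj_N B.θE, B.θe]
  have cQ : cj B.θ B.Q = B.Q := mem_normalizer_iff_cj.1 B.θQ
  have q3 : B.Q ⊓ B.N B.z ≤ B.Q1 ⊔ B.Q2 := fun u hu =>
    B.toLf.T1_inf_Q B.σ1 (B.N_inf hu.2 (B.toLf.Q_le_T0 hu.1)) hu.1
  have q1 : B.Q ⊓ B.N B.e ≤ B.Q2 ⊔ B.Q3 := by
    have := cj_mono B.θ q3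
    rwa [cj_inf, cj_sup, c1, cQ, B.θQ1, B.θQ2] at this
  have q2 : B.Q ⊓ B.N (B.e * B.z) ≤ B.Q1 ⊔ B.Q3 := by
    have := cj_mono B.θ q1
    rwa [cj_inf, cj_sup, c2, cQ, B.θQ2, B.θQ3, sup_comm] at this
  have p3 : B.Q1 ⊔ B.Q2 ≤ B.N B.z := B.toLf.Q12_le.trans B.T1_le_N
  have p1 : B.Q2 ⊔ B.Q3 ≤ B.N B.e := by
    have := cj_mono B.θ p3
    rwa [cj_sup, c1, B.θQ1, B.θQ2] at this
  have p2 : B.Q3 ⊔ B.Q1 ≤ B.N (B.e * B.z) := by
    have := cj_mono B.θ p1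
    rwa [cj_sup, c2, B.θQ2, B.θQ3] at this
  have EX : B.E ≤ B.X := B.toLf.E_le_Q.trans B.Q_le_X
  have hE : IsSylowIn 2 B.E (B.X ⊓ B.N B.z ⊓ B.N (B.e * B.z) ⊓ (B.X ⊓ B.N B.z ⊓ B.N B.e)) := by
    have h1 := B.sylQ.inf_of_le_normalizer
      (N := B.X ⊓ B.N B.z ⊓ B.N (B.e * B.z) ⊓ (B.X ⊓ B.N B.z ⊓ B.N B.e)) fun g hg =>
        mem_normalizer_of_forall fun m hm => ⟨nX _ (z_E _) _ ezE g hg m hm.1, nX _ (z_E _) _ (e_E _) g hg m hm.2⟩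
    rw [inf_eq_right.2 (inf_le_left.trans (inf_le_left.trans inf_le_left))] at h1
    convert h1 using 1
    refine le_antisymm (fun c h => ⟨B.toLf.E_le_Q h, ⟨⟨EX h, B.E_le_N _ h⟩, B.E_le_N _ h⟩,
      ⟨EX h, B.E_le_N _ h⟩, B.E_le_N _ h⟩) fun u hu => ?_
    have a3 := q3 ⟨hu.1, hu.2.1.1.2⟩
    exact B.toLf.inf_E B.σ1 (B.toLf.inf_1 B.σ1 a3 (q2 ⟨hu.1, hu.2.1.2⟩))
      (B.toLf.inf_2 B.σ1 a3 (q1 ⟨hu.1, hu.2.2.2⟩))
  have hC : Group.IsSolvable ↥(B.X ⊓ centralizer {B.t * B.f}) := by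
    have := B.sol_tf
    refine Core.isSolvable_of_le (K := centralizer {B.t * B.f, B.z}) fun g hg => ?_
    rw [mem_centralizer_iff]
    rintro u (rfl | rfl)
    · exact (mem_centralizer_singleton_iff.1 hg.2).symm
    · exact (B.mem_X.1 hg.1).2.2.symm
  have s1 := main ss (inf_le_left.trans inf_le_left) (inf_le_left.trans inf_le_left)
    (nX _ (z_E _) _ ezE) (nX _ (z_E _) _ (e_E _))
    (fun m hm => ⟨⟨sX m hm.1.1, sz ▸ sN _ m hm.1.2⟩, sez ▸ sN _ m hm.2⟩) hE hc hC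
  have s2 := main ss (inf_le_left.trans inf_le_left) (inf_le_left.trans inf_le_left)
    (nX _ (z_E _) _ (e_E _)) (nX _ (z_E _) _ ezE)
    (fun m hm => ⟨⟨sX m hm.1.1, sz ▸ sN _ m hm.1.2⟩, se ▸ sN _ m hm.2⟩) (by rw [inf_comm]; exact hE) hc hC
  have s3 := Core.isSolvable_sup_of_le_normalizer (H := B.X ⊓ B.N B.z ⊓ B.N (B.e * B.z))
    (N := B.X ⊓ B.N B.z ⊓ B.N B.e) fun g hg => mem_normalizer_of_forall (nX _ (z_E _) _ (e_E _) g hg.1.1)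
  have s4 : Group.IsSolvable ↥(B.X ⊓ B.N B.z) := by
    refine of_syl (B.sylQ.inf_of_le_normalizer (xN _ (z_E _))) (q3.trans (sup_le_sup ?_ ?_))
      (sup_le inf_le_left inf_le_left) (fun g hg m hm => ?_) s3
    · exact le_inf (le_inf (B.toLf.Q1_le.trans B.Q_le_X) (le_sup_left.trans p3)) (le_sup_right.trans p2)
    · exact le_inf (le_inf (B.toLf.Q2_le.trans B.Q_le_X) (le_sup_right.trans p3)) (le_sup_left.trans p1)
    · have h1 := (conj_mem_cj (g := g)).2 hm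
      rwa [cj_sup, mem_normalizer_iff_cj.1 (mem_normalizer_of_forall (nX _ (z_E _) _ ezE g hg.1)),
        mem_normalizer_iff_cj.1 (mem_normalizer_of_forall (nX _ (z_E _) _ (e_E _) g hg.1))] at h1
  refine Core.isSolvable_of_le (K := B.X ⊓ B.N B.z) fun g hg => ⟨?_, hg.1⟩
  have h1 := B.N_le (z_E _) hg.1
  exact B.mem_X.2 ⟨h1.1, mem_centralizer_singleton_iff.1 hg.2, mem_centralizer_singleton_iff.1 h1.2⟩


end Bf

end CfsgLib.L3F
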